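import Mathlib.Algebra.Module.FinitePresentation
import Mathlib.RingTheory.Localization.Away.Basic
import Mathlib.Algebra.Module.LocalizedModule.Submodule
import Mathlib.RingTheory.TensorProduct.Pi
import Mathlib.LinearAlgebra.TensorProduct.RightExactness
import Mathlib.RingTheory.IsTensorProduct
import Mathlib.RingTheory.TensorProduct.IsBaseChangePi

/-!
# Presentations of bounded size: base change, gluing and products
-/

set_option autoImplicit false
set_option linter.style.haveILetI false
universe u v w

open TensorProduct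

namespace GrothLib.FPProd7

/-- A presentation by `n` generators and `r` relations. -/
def HasPres (R : Type u) [CommRing R] (M : Type v) [AddCommGroup M] [Module R M] (n r : ℕ) : Prop :=
  ∃ π : (Fin n → R) →ₗ[R] M, Function.Surjective π ∧
    ∃ k : Fin r → (Fin n → R), LinearMap.ker π = Submodule.span R (Set.range k)

theorem hasPres_of_finitePresentation (R : Type u) [CommRing R] (M : Type v) [AddCommGroup M] [Module R M]
    [Module.FinitePresentation R M] : ∃ n r, HasPres R M n r := by
  classical
  obtain ⟨n, m, f, g, hf, hfg⟩ := Module.FinitePresentation.exists_fin' R M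
  refine ⟨n, m, f, hf, fun l => g (Pi.single l 1), ?_⟩
  rw [hfg.linearMap_ker_eq, ← Submodule.map_top, ← (Pi.basisFun R (Fin m)).span_eq, Submodule.map_span,
    ← Set.range_comp]
  simp [Function.comp_def]

theorem HasPres.baseChange {R : Type u} [CommRing R] {M : Type v} [AddCommGroup M] [Module R M]
    {S : Type w} [CommRing S] [Algebra R S] {N : Type v} [AddCommGroup N] [Module R N] [Module S N]
    [IsScalarTower R S N] {p : M →ₗ[R] N} (hp : IsBaseChange S p) {n r : ℕ} (h : HasPres R M n r) :
    HasPres S N n r := by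
  classical
  obtain ⟨π, hπ, k, hk⟩ := h
  let P : (S ⊗[R] (Fin n → R)) →ₗ[S] N := hp.equiv.toLinearMap ∘ₗ π.baseChange S
  let e : (S ⊗[R] (Fin n → R)) ≃ₗ[S] (Fin n → S) := TensorProduct.piScalarRight R S S (Fin n)
  refine ⟨P ∘ₗ e.symm.toLinearMap, ?_, fun l => e (1 ⊗ₜ k l), ?_⟩
  · exact (hp.equiv.surjective.comp (LinearMap.lTensor_surjective S hπ)).comp e.symm.surjective
  · have hker : LinearMap.ker P = Submodule.span S (Set.range fun l => (1 : S) ⊗ₜ[R] k l) := by
      apply le_antisymm
      · intro x hx
        have hx' : LinearMap.lTensor S π x = 0 := hp.equiv.injective (hx.trans (map_zero _).symm)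
        obtain ⟨y, rfl⟩ := ((lTensor_exact S (LinearMap.exact_subtype_ker_map π) hπ) x).1 hx'
        induction y using TensorProduct.induction_on with
        | zero => simp
        | add a b ha hb =>
          rw [map_add]
          refine Submodule.add_mem _ (ha ?_ ?_) (hb ?_ ?_)
          all_goals first
            | exact ((lTensor_exact S (LinearMap.exact_subtype_ker_map π) hπ) _).2 ⟨_, rfl⟩
            | exact (congrArg hp.equiv (((lTensor_exact S (LinearMap.exact_subtype_ker_map π) hπ) _).2 ⟨_, rfl⟩)).trans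
                (map_zero _)
        | tmul s z =>
          have hz : (z : Fin n → R) ∈ Submodule.span R (Set.range k) := hk ▸ z.2
          rw [Submodule.mem_span_range_iff_exists_fun] at hz
          obtain ⟨c, hc⟩ := hz
          rw [LinearMap.lTensor_tmul, Submodule.subtype_apply, ← hc, tmul_sum]
          refine Submodule.sum_mem _ fun l _ => ?_
          rw [tmul_smul, show c l • (s ⊗ₜ[R] k l) = (c l • s) • ((1 : S) ⊗ₜ[R] k l) by
            rw [TensorProduct.smul_tmul', TensorProduct.smul_tmul', smul_eq_mul, mul_one]]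
          exact Submodule.smul_mem _ _ (Submodule.subset_span ⟨l, rfl⟩)
      · rw [Submodule.span_le]
        rintro _ ⟨l, rfl⟩
        have h0 : π (k l) = 0 := by
          rw [← LinearMap.mem_ker, hk]
          exact Submodule.subset_span ⟨l, rfl⟩
        simp [P, h0]
    ext x
    rw [LinearMap.mem_ker, LinearMap.comp_apply, ← LinearMap.mem_ker, hker,
      show Set.range (fun l => e ((1 : S) ⊗ₜ[R] k l)) = e.toLinearMap '' Set.range (fun l => (1 : S) ⊗ₜ[R] k l) from
        (Set.range_comp e.toLinearMap _), Submodule.span_image, Submodule.mem_map_equiv]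
    rfl

/-- Change of generators. -/
theorem exists_ker_gens {R : Type u} [CommRing R] {M : Type v} [AddCommGroup M] [Module R M] {n r N : ℕ}
    (h : HasPres R M n r) (π : (Fin N → R) →ₗ[R] M) (hπ : Function.Surjective π) :
    ∃ k : Fin (r + N) → (Fin N → R), LinearMap.ker π = Submodule.span R (Set.range k) := by
  classical
  obtain ⟨p, hp, k, hk⟩ := h
  obtain ⟨a, ha⟩ := Module.projective_lifting_property p π hp
  obtain ⟨b, hb⟩ := Module.projective_lifting_property π p hπ
  refine ⟨Fin.append (fun l => b (k l)) (fun j => Pi.single j 1 - b (a (Pi.single j 1))), le_antisymm ?_ ?_⟩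
  · intro x hx
    have h1 : a x ∈ Submodule.span R (Set.range k) := by
      rw [← hk, LinearMap.mem_ker]
      exact (LinearMap.congr_fun ha x).trans hx
    have h2 : b (a x) ∈ (Submodule.span R (Set.range k)).map b := Submodule.mem_map_of_mem h1
    have hx' : x = b (a x) + ∑ j, x j • (Pi.single j 1 - b (a (Pi.single j 1))) := by
      simp only [smul_sub, Finset.sum_sub_distrib, ← map_smul, ← map_sum, ← pi_eq_sum_univ' x]
      abel
    rw [hx']
    refine Submodule.add_mem _ ?_ (Submodule.sum_mem _ fun j _ => Submodule.smul_mem _ _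
      (Submodule.subset_span ⟨Fin.natAdd r j, Fin.append_right _ _ j⟩))
    rw [Submodule.map_span] at h2
    refine Submodule.span_mono ?_ h2
    rintro _ ⟨_, ⟨l, rfl⟩, rfl⟩
    exact ⟨Fin.castAdd N l, Fin.append_left _ _ l⟩
  · rw [Submodule.span_le]
    rintro _ ⟨l, rfl⟩
    refine Fin.addCases (fun l => ?_) (fun j => ?_) l
    · rw [Fin.append_left, SetLike.mem_coe, LinearMap.mem_ker]
      refine (LinearMap.congr_fun hb (k l)).trans ?_
      rw [← LinearMap.mem_ker, hk]
      exact Submodule.subset_span ⟨l, rfl⟩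
    · rw [Fin.append_right, SetLike.mem_coe, LinearMap.mem_ker, map_sub]
      rw [show π (b (a (Pi.single j 1))) = p (a (Pi.single j 1)) from LinearMap.congr_fun hb _,
        show p (a (Pi.single j 1)) = π (Pi.single j 1) from LinearMap.congr_fun ha _, sub_self]

/-- A presentation of bounded size from presentations on a covering by principal opens. -/
theorem hasPres_of_away {A : Type u} [CommRing A] {M : Type v} [AddCommGroup M] [Module A M]
    {S : Type w} [Fintype S] (g : S → A) (hg : Ideal.span (Set.range g) = ⊤)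
    (As : S → Type u) [∀ s, CommRing (As s)] [∀ s, Algebra A (As s)] [∀ s, IsLocalization.Away (g s) (As s)]
    (Ms : S → Type v) [∀ s, AddCommGroup (Ms s)] [∀ s, Module A (Ms s)] [∀ s, Module (As s) (Ms s)]
    [∀ s, IsScalarTower A (As s) (Ms s)] (φ : ∀ s, M →ₗ[A] Ms s)
    [∀ s, IsLocalizedModule (Submonoid.powers (g s)) (φ s)]
    {n r : S → ℕ} (h : ∀ s, HasPres (As s) (Ms s) (n s) (r s)) :
    HasPres A M (Fintype.card (Σ s, Fin (n s)))
      (Fintype.card (Σ s, Fin (r s + Fintype.card (Σ t, Fin (n t))))) := by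
  classical
  set N := Fintype.card (Σ s, Fin (n s)) with hN
  choose p hp k hk using h
  choose m hm using fun q : Σ s, Fin (n s) =>
    IsLocalizedModule.surj (Submonoid.powers (g q.1)) (φ q.1) (p q.1 (Pi.single q.2 1))
  let e := (Fintype.equivFin (Σ s, Fin (n s))).symm
  let π : (Fin N → A) →ₗ[A] M := Fintype.linearCombination A fun j => (m (e j)).1
  have hπe : ∀ q, π (Pi.single (e.symm q) 1) = (m q).1 := fun q => by
    simp only [π, Fintype.linearCombination_apply_single, one_smul]
    exact congrArg (fun q => (m q).1) (e.apply_symm_apply q)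
  have hsurj : Function.Surjective π := fun x => by
    have hx : x ∈ LinearMap.range π := by
      refine Submodule.mem_of_span_eq_top_of_smul_pow_mem _ (Set.range g) hg _ ?_
      rintro ⟨_, s, rfl⟩
      have hloc : φ s x ∈ Submodule.localized' (As s) (Submonoid.powers (g s)) (φ s) (LinearMap.range π) := by
        obtain ⟨c, hc⟩ := hp s (φ s x)
        rw [← hc, pi_eq_sum_univ' c, map_sum]
        refine Submodule.sum_mem _ fun j _ => ?_
        rw [map_smul]
        refine Submodule.smul_mem _ _ ⟨(m ⟨s, j⟩).1, ⟨_, hπe ⟨s, j⟩⟩, (m ⟨s, j⟩).2, ?_⟩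
        rw [IsLocalizedModule.mk'_eq_iff]
        exact (hm ⟨s, j⟩).symm
      obtain ⟨y, hy, c, hyc⟩ := hloc
      rw [IsLocalizedModule.mk'_eq_iff] at hyc
      obtain ⟨⟨_, l, rfl⟩, hl⟩ := IsLocalizedModule.exists_of_eq (S := Submonoid.powers (g s)) (f := φ s)
        (show φ s y = φ s (c • x) by rw [hyc, Submonoid.smul_def, Submonoid.smul_def, map_smul])
      obtain ⟨_, l', rfl⟩ := c
      refine ⟨l + l', ?_⟩
      simp only [pow_add, mul_smul]
      simp only [Submonoid.smul_def] at hl
      rw [← hl]
      exact Submodule.smul_mem _ _ hy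
    exact hx
  let F : ∀ s, (Fin N → A) →ₗ[A] (Fin N → As s) := fun s =>
    LinearMap.pi fun i => (Algebra.linearMap A (As s)) ∘ₗ LinearMap.proj i
  haveI : ∀ s, IsLocalizedModule (Submonoid.powers (g s)) (F s) := fun s =>
    inferInstanceAs (IsLocalizedModule (Submonoid.powers (g s))
      (LinearMap.pi fun i => (Algebra.linearMap A (As s)) ∘ₗ LinearMap.proj i))
  let πs : ∀ s, (Fin N → As s) →ₗ[As s] Ms s := fun s =>
    (IsLocalizedModule.map (Submonoid.powers (g s)) (F s) (φ s) π).extendScalarsOfIsLocalization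
      (Submonoid.powers (g s)) (As s)
  have hπs : ∀ s x, πs s (F s x) = φ s (π x) := fun s x =>
    IsLocalizedModule.map_apply (Submonoid.powers (g s)) (F s) (φ s) π x
  have hπs' : ∀ s, Function.Surjective (πs s) := fun s =>
    IsLocalizedModule.map_surjective (Submonoid.powers (g s)) (F s) (φ s) π hsurj
  choose K hK using fun s => exists_ker_gens (⟨p s, hp s, k s, hk s⟩ : HasPres _ _ _ _) (πs s) (hπs' s)
  have hK' : ∀ q : Σ s, Fin (r s + N), ∃ (z : Fin N → A) (c : Submonoid.powers (g q.1)),
      π z = 0 ∧ F q.1 z = c • K q.1 q.2 := by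
    intro q
    obtain ⟨⟨z, c⟩, hz⟩ := IsLocalizedModule.surj (Submonoid.powers (g q.1)) (F q.1) (K q.1 q.2)
    have h0 : πs q.1 (K q.1 q.2) = 0 := by
      rw [← LinearMap.mem_ker, hK]
      exact Submodule.subset_span ⟨_, rfl⟩
    have h1 : φ q.1 (π z) = φ q.1 0 := by
      rw [← hπs, ← hz, Submonoid.smul_def, LinearMap.map_smul_of_tower, h0, smul_zero, map_zero]
    obtain ⟨d, hd⟩ := IsLocalizedModule.exists_of_eq (S := Submonoid.powers (g q.1)) (f := φ q.1) h1
    refine ⟨d • z, d * c, ?_, ?_⟩
    · rw [Submonoid.smul_def, map_smul, ← Submonoid.smul_def, hd, smul_zero]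
    · rw [Submonoid.smul_def, map_smul, ← Submonoid.smul_def, ← hz, mul_smul]
  choose z c hz0 hzF using hK'
  let e' := (Fintype.equivFin (Σ s, Fin (r s + N))).symm
  refine ⟨π, hsurj, fun l => z (e' l), le_antisymm (fun x hx => ?_) ?_⟩
  · refine Submodule.mem_of_span_eq_top_of_smul_pow_mem _ (Set.range g) hg _ ?_
    rintro ⟨_, s, rfl⟩
    have hloc : F s x ∈ Submodule.localized' (As s) (Submonoid.powers (g s)) (F s)
        (Submodule.span A (Set.range fun l => z (e' l))) := by
      have h1 : F s x ∈ Submodule.span (As s) (Set.range (K s)) := by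
        rw [← hK, LinearMap.mem_ker, hπs, hx, map_zero]
      refine Submodule.span_le.2 ?_ h1
      rintro _ ⟨j, rfl⟩
      refine ⟨z ⟨s, j⟩, Submodule.subset_span ⟨e'.symm ⟨s, j⟩, ?_⟩, c ⟨s, j⟩, ?_⟩
      · show z (e' (e'.symm ⟨s, j⟩)) = _
        rw [Equiv.apply_symm_apply]
      · rw [IsLocalizedModule.mk'_eq_iff]
        exact hzF ⟨s, j⟩
    obtain ⟨y, hy, d, hyd⟩ := hloc
    rw [IsLocalizedModule.mk'_eq_iff] at hyd
    obtain ⟨⟨_, l, rfl⟩, hl⟩ := IsLocalizedModule.exists_of_eq (S := Submonoid.powers (g s)) (f := F s)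
      (show F s y = F s (d • x) by rw [hyd, Submonoid.smul_def, Submonoid.smul_def, map_smul])
    obtain ⟨_, l', rfl⟩ := d
    refine ⟨l + l', ?_⟩
    simp only [pow_add, mul_smul]
    simp only [Submonoid.smul_def] at hl
    rw [← hl]
    exact Submodule.smul_mem _ _ hy
  · rw [Submodule.span_le]
    rintro _ ⟨l, rfl⟩
    exact hz0 _

/-- A product of modules with presentations of bounded size is finitely presented. -/
theorem finitePresentation_pi {ι : Type w} (A : ι → Type u) [∀ i, CommRing (A i)] (M : ι → Type v)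
    [∀ i, AddCommGroup (M i)] [∀ i, Module (A i) (M i)] (N R : ℕ) (h : ∀ i, HasPres (A i) (M i) N R) :
    Module.FinitePresentation (∀ i, A i) (∀ i, M i) := by
  classical
  choose π hπ k hk using h
  let P : (Fin N → ∀ i, A i) →ₗ[∀ i, A i] (∀ i, M i) :=
    { toFun := fun x i => π i fun j => x j i
      map_add' := fun x y => funext fun i => map_add (π i) (fun j => x j i) (fun j => y j i)
      map_smul' := fun c x => funext fun i => map_smul (π i) (c i) (fun j => x j i) }
  refine Module.finitePresentation_of_surjective P (fun y => ?_) ?_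
  · choose x hx using fun i => hπ i (y i)
    exact ⟨fun j i => x i j, funext fun i => hx i⟩
  · refine Submodule.fg_iff_exists_fin_generating_family.2 ⟨R, fun l j i => k i l j, le_antisymm ?_ ?_⟩
    · rw [Submodule.span_le]
      rintro _ ⟨l, rfl⟩
      refine funext fun i => ?_
      show π i (k i l) = 0
      rw [← LinearMap.mem_ker, hk]
      exact Submodule.subset_span ⟨l, rfl⟩
    · intro x hx
      have hx' : ∀ i, ∃ c : Fin R → A i, ∑ l, c l • k i l = fun j => x j i := fun i => by
        rw [← Submodule.mem_span_range_iff_exists_fun, ← hk, LinearMap.mem_ker]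
        exact congrFun hx i
      choose c hc using hx'
      rw [Submodule.mem_span_range_iff_exists_fun]
      refine ⟨fun l i => c i l, funext fun j => funext fun i => ?_⟩
      have := congrFun (hc i) j
      simpa [Finset.sum_apply, Pi.smul_apply'] using this

end GrothLib.FPProd7
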