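import Groth.Agent.Lib.FPProd7.Alg
import Groth.Agent.Lib.BCCoh.PullSec
import Groth.Agent.Lib.QCoh.Qcqs
import Groth.Agent.Lib.FittSheaf.Pullback
import Groth.Agent.Lib.FlatFP.Sheaf
import Groth.Agent.Lib.FibPd.OpenScheme

/-!
# Sections of pullbacks to affines of a finitely presented module: bounded presentations
-/

set_option autoImplicit false
set_option linter.style.haveILetI false
universe u

open CategoryTheory AlgebraicGeometry Opposite TopologicalSpace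

namespace GrothLib.FPProd7

theorem exists_principal_refine {Y : Scheme.{u}} [IsAffine Y] {S : Type u} [Fintype S] (U : S → Y.Opens)
    (hU : (⊤ : Y.Opens) ≤ ⨆ s, U s) :
    ∃ g : S → Γ(Y, ⊤), Ideal.span (Set.range g) = ⊤ ∧ ∀ s, Y.basicOpen (g s) ≤ U s := by
  classical
  have hA : IsAffineOpen (⊤ : Y.Opens) := isAffineOpen_top Y
  let G : S → Set Γ(Y, ⊤) := fun s => {g | Y.basicOpen g ≤ U s}
  have htop : (⨆ s, Ideal.span (G s)) = ⊤ := by
    rw [← Ideal.span_iUnion, ← hA.iSup_basicOpen_eq_self_iff]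
    refine le_antisymm le_top fun x hx => ?_
    obtain ⟨s, hs⟩ := Opens.mem_iSup.1 (hU hx)
    obtain ⟨g, hgU, hxg⟩ := hA.exists_basicOpen_le ⟨x, hs⟩ hx
    exact Opens.mem_iSup.2 ⟨⟨g, Set.mem_iUnion.2 ⟨s, hgU⟩⟩, hxg⟩
  obtain ⟨g, hg⟩ := Submodule.mem_iSup_iff_exists_finsupp _ _ |>.1 (htop.ge (Submodule.mem_top (x := (1 : Γ(Y, ⊤)))))
  refine ⟨fun s => g s, ?_, fun s => ?_⟩
  · rw [Ideal.eq_top_iff_one, ← hg.2]
    refine Submodule.sum_mem _ fun s _ => Ideal.subset_span ⟨s, rfl⟩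
  · intro x hx
    have hxm : Y.basicOpen (g s) ≤ ⨆ q : G s, Y.basicOpen (q : Γ(Y, ⊤)) := by
      intro y hy
      by_contra hyn
      let P : Ideal Γ(Y, ⊤) := (IsLocalRing.maximalIdeal (Y.presheaf.stalk y)).comap (Y.presheaf.germ ⊤ y trivial).hom
      have hP : ∀ q, q ∈ P ↔ y ∉ Y.basicOpen q := fun q => by
        rw [Y.mem_basicOpen q y (show y ∈ (⊤ : Y.Opens) from trivial)]
        exact (IsLocalRing.mem_maximalIdeal _)
      have hsub : G s ⊆ (P : Set Γ(Y, ⊤)) := fun q hq => by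
        refine (hP q).2 fun hyq => hyn (Opens.mem_iSup.2 ⟨⟨q, hq⟩, hyq⟩)
      exact (hP _).1 (Ideal.span_le.2 hsub (hg.1 s)) hy
    obtain ⟨q, hq⟩ := Opens.mem_iSup.1 (hxm hx)
    exact q.2 hq

/-- Presentations of pullbacks to affines with bounds independent of the affine. -/
theorem exists_bound (X : Scheme.{u}) [CompactSpace X] (F : X.Modules) (hF : CohB1.IsFP F) :
    ∃ N R : ℕ, ∀ (Y : Scheme.{u}) (_ : IsAffine Y) (f : Y ⟶ X),
      HasPres Γ(Y, ⊤) Γ((Scheme.Modules.pullback f).obj F, ⊤) N R := by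
  classical
  haveI : F.IsQuasicoherent := FibPd.isQuasicoherent_of_isFP hF
  obtain ⟨S, _, V, hVA, -, hcov⟩ := QCoh.exists_finite_affine_cover (U := (⊤ : X.Opens))
    (by simpa using isCompact_univ)
  choose n r hnr using fun s => @hasPres_of_finitePresentation Γ(X, V s) _ Γ(F, V s) _ _
    (FlatFP.finitePresentation_sections F hF (hVA s))
  refine ⟨Fintype.card (Σ s, Fin (n s)), Fintype.card (Σ s, Fin (r s + Fintype.card (Σ t, Fin (n t)))),
    fun Y hY f => ?_⟩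
  let T := (Scheme.Modules.pullback f).obj F
  haveI : T.IsQuasicoherent := FittSheaf.isQuasicoherent_pullback f F
  obtain ⟨g, hg, hgV⟩ := exists_principal_refine (fun s => f ⁻¹ᵁ V s) (by
    intro y _
    obtain ⟨s, hs⟩ := Opens.mem_iSup.1 (hcov (x := f y) trivial)
    exact Opens.mem_iSup.2 ⟨s, hs⟩)
  have hA : IsAffineOpen (⊤ : Y.Opens) := isAffineOpen_top Y
  letI (s : S) : Algebra Γ(Y, ⊤) Γ(Y, Y.basicOpen (g s)) :=
    (Y.presheaf.map (homOfLE (Y.basicOpen_le (g s))).op).hom.toAlgebra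
  haveI (s : S) : IsLocalization.Away (g s) Γ(Y, Y.basicOpen (g s)) := hA.isLocalization_basicOpen (g s)
  letI (s : S) : Module Γ(Y, ⊤) Γ(T, Y.basicOpen (g s)) :=
    Module.compHom _ (Y.presheaf.map (homOfLE (Y.basicOpen_le (g s))).op).hom
  haveI (s : S) : IsScalarTower Γ(Y, ⊤) Γ(Y, Y.basicOpen (g s)) Γ(T, Y.basicOpen (g s)) :=
    IsScalarTower.of_algebraMap_smul fun _ _ => rfl
  let φ (s : S) : Γ(T, ⊤) →ₗ[Γ(Y, ⊤)] Γ(T, Y.basicOpen (g s)) :=
    { toFun := T.presheaf.map (homOfLE (Y.basicOpen_le (g s))).op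
      map_add' := map_add _
      map_smul' := fun a z => Scheme.Modules.map_smul T (homOfLE (Y.basicOpen_le (g s))) a z }
  haveI (s : S) : IsLocalizedModule (Submonoid.powers (g s)) (φ s) := by
    obtain ⟨hl, hsep⟩ := QCoh.smulLift_and_smulSep_of_isAffineOpen hA T (g s)
    refine IsLocalizedModule.Away.mk_of_addCommGroup ?_ (fun z => ?_) (fun z hz => hsep z hz)
    · have hu : IsUnit (algebraMap Γ(Y, ⊤) Γ(Y, Y.basicOpen (g s)) (g s)) :=
        IsLocalization.Away.algebraMap_isUnit (g s)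
      rw [Module.End.isUnit_iff]
      exact ⟨fun a b hab => hu.smul_left_cancel.mp hab,
        fun a => ⟨(↑hu.unit⁻¹ : Γ(Y, Y.basicOpen (g s))) • a, by
          show algebraMap Γ(Y, ⊤) Γ(Y, Y.basicOpen (g s)) (g s) •
            (↑hu.unit⁻¹ : Γ(Y, Y.basicOpen (g s))) • a = a
          rw [smul_smul, hu.mul_val_inv, one_smul]⟩⟩
    · obtain ⟨m, t, ht⟩ := hl z
      refine ⟨m, t, ?_⟩
      show algebraMap Γ(Y, ⊤) Γ(Y, Y.basicOpen (g s)) (g s ^ m) • z = _
      rw [map_pow]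
      exact ht.symm
  refine hasPres_of_away g hg (fun s => Γ(Y, Y.basicOpen (g s))) (fun s => Γ(T, Y.basicOpen (g s))) φ fun s => ?_
  letI : Algebra Γ(X, V s) Γ(Y, Y.basicOpen (g s)) := (f.appLE (V s) (Y.basicOpen (g s)) (hgV s)).hom.toAlgebra
  letI : Module Γ(X, V s) Γ(T, Y.basicOpen (g s)) := Module.compHom _ (f.appLE (V s) (Y.basicOpen (g s)) (hgV s)).hom
  haveI : IsScalarTower Γ(X, V s) Γ(Y, Y.basicOpen (g s)) Γ(T, Y.basicOpen (g s)) :=
    IsScalarTower.of_algebraMap_smul fun _ _ => rfl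
  obtain ⟨p, hp, -⟩ := BCCoh.isBaseChange_pullRes f F (hVA s) (hA.basicOpen (g s)) (hgV s)
  exact (hnr s).baseChange hp

end GrothLib.FPProd7
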